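import Mathlib.RingTheory.AdicCompletion.Basic
import Mathlib.RingTheory.Finiteness.Basic
import Mathlib.RingTheory.Finiteness.Ideal
import Mathlib.Algebra.Module.Projective
import Mathlib.RingTheory.Finiteness.Cardinality

/-!
# Complete filtered modules: successive approximation and inverse limits of adic systems
-/

namespace Groth.Agent.AdicLim

universe u v w

section Approx

/-- Successive approximation: if `g` maps the complete filtration `G` of `F` into the separated
filtration `N` of `L` and is surjective on each graded step, then it maps `G 0` onto `N 0`. -/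
theorem exists_eq_map {F : Type u} {L : Type v} [AddCommGroup F] [AddCommGroup L]
    (G : ℕ → AddSubgroup F) (N : ℕ → AddSubgroup L) (g : F →+ L)
    (hG : ∀ k, G (k + 1) ≤ G k)
    (hcomp : ∀ s : ℕ → F, (∀ k, s (k + 1) - s k ∈ G k) → ∃ S, ∀ k, S - s k ∈ G k)
    (hsep : ∀ x : L, (∀ k, x ∈ N k) → x = 0)
    (hgN : ∀ k, ∀ c ∈ G k, g c ∈ N k)
    (hstep : ∀ k, ∀ x ∈ N k, ∃ c ∈ G k, x - g c ∈ N (k + 1))
    {x : L} (hx : x ∈ N 0) : ∃ c ∈ G 0, g c = x := by
  classical
  let step : ℕ → F → F := fun k s => if h : x - g s ∈ N k then s + (hstep k _ h).choose else s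
  let s : ℕ → F := fun k => Nat.rec 0 step k
  have hs : ∀ k, x - g (s k) ∈ N k ∧ s (k + 1) - s k ∈ G k ∧ s k ∈ G 0 := by
    have hG0 : ∀ k, G k ≤ G 0 := fun k => antitone_nat_of_succ_le hG (Nat.zero_le k)
    have key : ∀ k, x - g (s k) ∈ N k ∧ s k ∈ G 0 := by
      intro k
      induction k with
      | zero => exact ⟨by simpa [s] using hx, zero_mem _⟩
      | succ k ih =>
        obtain ⟨h1, h2⟩ := (hstep k _ ih.1).choose_spec
        have e : s (k + 1) = s k + (hstep k _ ih.1).choose := by
          show step k (s k) = _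
          exact dif_pos ih.1
        refine ⟨?_, ?_⟩
        · rw [e, map_add, ← sub_sub]; exact h2
        · rw [e]; exact add_mem ih.2 (hG0 k h1)
    intro k
    refine ⟨(key k).1, ?_, (key k).2⟩
    have e : s (k + 1) = s k + (hstep k _ (key k).1).choose := by
      show step k (s k) = _
      exact dif_pos (key k).1
    rw [e, add_sub_cancel_left]
    exact (hstep k _ (key k).1).choose_spec.1
  obtain ⟨S, hS⟩ := hcomp s fun k => (hs k).2.1
  refine ⟨S, ?_, ?_⟩
  · have := add_mem (hS 0) (hs 0).2.2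
    simpa using this
  · refine (sub_eq_zero.1 (hsep (x - g S) fun k => ?_)).symm
    have h2 : g (S - s k) ∈ N k := hgN k _ (hS k)
    have := sub_mem (hs k).1 h2
    rwa [map_sub, sub_sub_sub_cancel_right] at this

end Approx

variable {A : Type u} [CommRing A] (I : Ideal A)
variable {L : Type v} [AddCommGroup L] [Module A L]

/-- A separated, complete filtration `N` of `L` with `I^(n+1) L ≤ N n ≤ I^(n+1) L + N (n+1)`. -/
structure IsLimFilt (N : ℕ → Submodule A L) : Prop where
  sep : ∀ x : L, (∀ n, x ∈ N n) → x = 0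
  compl : ∀ s : ℕ → L, (∀ n, s (n + 1) - s n ∈ N n) → ∃ S, ∀ n, S - s n ∈ N n
  pow_le : ∀ n, I ^ (n + 1) • (⊤ : Submodule A L) ≤ N n
  le_step : ∀ n, N n ≤ I ^ (n + 1) • (⊤ : Submodule A L) ⊔ N (n + 1)
  mono : ∀ n, N (n + 1) ≤ N n

variable {I}

/-- Precompleteness in successor form. -/
theorem exists_limit (M : Type*) [AddCommGroup M] [Module A M] [IsPrecomplete I M] (s : ℕ → M)
    (hs : ∀ n, s (n + 1) - s n ∈ I ^ n • (⊤ : Submodule A M)) :
    ∃ S : M, ∀ n, S - s n ∈ I ^ n • (⊤ : Submodule A M) := by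
  obtain ⟨S, hS⟩ := IsPrecomplete.prec (I := I) (M := M) inferInstance (f := s) (by
    intro m n hmn
    induction hmn with
    | refl => exact SModEq.rfl
    | step hmn ih =>
      refine ih.trans (SModEq.sub_mem.2 ?_)
      rw [← neg_sub]
      exact neg_mem (Submodule.pow_smul_top_le I M hmn (hs _)))
  refine ⟨S, fun n => ?_⟩
  rw [← neg_sub]
  exact neg_mem (SModEq.sub_mem.1 (hS n))

/-- Truncating subtraction version of precompleteness: limits for the filtration `k ↦ I^(k-d)`. -/
theorem exists_limit_shift (M : Type*) [AddCommGroup M] [Module A M] [IsPrecomplete I M] (d : ℕ)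
    (s : ℕ → M) (hs : ∀ n, s (n + 1) - s n ∈ I ^ (n - d) • (⊤ : Submodule A M)) :
    ∃ S : M, ∀ n, S - s n ∈ I ^ (n - d) • (⊤ : Submodule A M) := by
  obtain ⟨S, hS⟩ := exists_limit (I := I) M (fun n => s (n + d)) fun n => by
    simpa [Nat.add_right_comm n 1 d] using hs (n + d)
  refine ⟨S, fun n => ?_⟩
  rcases le_or_gt d n with h | h
  · simpa [Nat.sub_add_cancel h] using hS (n - d)
  · rw [Nat.sub_eq_zero_of_le h.le, pow_zero, Ideal.one_eq_top, Submodule.top_smul]
    trivial

theorem mem_smul_top_pi_iff {ι : Type*} [Finite ι] {M : Type*} [AddCommGroup M] [Module A M]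
    (J : Ideal A) (x : ι → M) :
    x ∈ J • (⊤ : Submodule A (ι → M)) ↔ ∀ i, x i ∈ J • (⊤ : Submodule A M) := by
  classical
  haveI := Fintype.ofFinite ι
  refine ⟨fun hx i => ?_, fun hx => ?_⟩
  · have h := Submodule.mem_map_of_mem (f := LinearMap.proj (R := A) i) hx
    rw [Submodule.map_smul''] at h
    exact Submodule.smul_mono le_rfl le_top h
  · rw [← Finset.univ_sum_single x]
    refine Submodule.sum_mem _ fun i _ => ?_
    have h := Submodule.mem_map_of_mem (f := LinearMap.single A (fun _ : ι => M) i) (hx i)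
    rw [Submodule.map_smul''] at h
    exact Submodule.smul_mono le_rfl le_top h

theorem isPrecomplete_pi {ι : Type*} [Finite ι] (M : Type*) [AddCommGroup M] [Module A M]
    [IsPrecomplete I M] : IsPrecomplete I (ι → M) := by
  refine ⟨fun f hf => ?_⟩
  have : ∀ i, ∃ L : M, ∀ n, f n i ≡ L [SMOD (I ^ n • ⊤ : Submodule A M)] := fun i =>
    IsPrecomplete.prec inferInstance fun {m n} hmn =>
      SModEq.sub_mem.2 ((mem_smul_top_pi_iff _ _).1 (SModEq.sub_mem.1 (hf hmn)) i)
  choose L hL using this
  exact ⟨L, fun n => SModEq.sub_mem.2 ((mem_smul_top_pi_iff _ _).2 fun i =>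
    SModEq.sub_mem.1 (hL i n))⟩

namespace IsLimFilt

variable {N : ℕ → Submodule A L}

theorem zero_le_smul_sup (h : IsLimFilt I N) (m : ℕ) : N 0 ≤ I • (⊤ : Submodule A L) ⊔ N m := by
  induction m with
  | zero => exact le_sup_right
  | succ m ih =>
    refine ih.trans (sup_le le_sup_left ((h.le_step m).trans (sup_le ?_ le_sup_right)))
    exact le_sup_of_le_left (Submodule.smul_mono_left (Ideal.pow_le_self (Nat.succ_ne_zero m)))

theorem le_pow_smul_sup (h : IsLimFilt I N) (j m : ℕ) :
    N j ≤ I ^ (j + 1) • (⊤ : Submodule A L) ⊔ N (j + m) := by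
  induction m with
  | zero => exact le_sup_right
  | succ m ih =>
    refine ih.trans (sup_le le_sup_left ((h.le_step (j + m)).trans (sup_le ?_ le_sup_right)))
    exact le_sup_of_le_left (Submodule.smul_mono_left (Ideal.pow_le_pow_right (by omega)))

theorem pow_smul_zero_le (h : IsLimFilt I N) (n : ℕ) : I ^ (n + 1) • N 0 ≤ N (n + 1) := by
  refine (smul_mono_right _ (h.zero_le_smul_sup (n + 1))).trans ?_
  rw [Submodule.smul_sup, ← Submodule.mul_smul, ← pow_succ]
  exact sup_le (h.pow_le (n + 1)) (Submodule.smul_le_right)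

/-- If `L / N 0` is finite and `A` is complete, a surjection onto `L / N 0` is one onto `L`. -/
theorem exists_surjective (h : IsLimFilt I N) {F : Type w} [AddCommGroup F] [Module A F]
    [IsPrecomplete I F] (g : F →ₗ[A] L) (hg : LinearMap.range g ⊔ N 0 = ⊤) :
    Function.Surjective g ∧ ∀ n, N n = I ^ (n + 1) • (⊤ : Submodule A L) := by
  have key : ∀ n, ∀ x ∈ N n, ∃ c ∈ I ^ (n + 1) • (⊤ : Submodule A F), g c = x := by
    intro n x hx
    refine exists_eq_map (fun k => (I ^ (n + k + 1) • (⊤ : Submodule A F)).toAddSubgroup)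
      (fun k => (N (n + k)).toAddSubgroup) g.toAddMonoidHom
      (fun k => Submodule.pow_smul_top_le I F (by omega)) ?_ ?_ ?_ ?_ (x := x) hx
    · intro s hs
      obtain ⟨S, hS⟩ := exists_limit (I := I) F s fun k =>
        Submodule.pow_smul_top_le I F (by omega) (hs k)
      refine ⟨S, fun k => ?_⟩
      -- telescoping: the tail of the sequence stays in the same step of the filtration
      have tail : ∀ j, s (k + j) - s k ∈ I ^ (n + k + 1) • (⊤ : Submodule A F) := by
        intro j
        induction j with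
        | zero => simp
        | succ j ih =>
          have := add_mem (Submodule.pow_smul_top_le I F (by omega) (hs (k + j))) ih
          rwa [sub_add_sub_cancel] at this
      have := add_mem (Submodule.pow_smul_top_le I F (by omega) (hS (k + (n + 1)))) (tail (n + 1))
      rwa [sub_add_sub_cancel] at this
    · intro y hy
      refine h.sep y fun m => ?_
      exact antitone_nat_of_succ_le h.mono (Nat.le_add_left m n) (hy m)
    · intro k c hc
      refine h.pow_le (n + k) ?_
      have h1 : g c ∈ (I ^ (n + k + 1) • (⊤ : Submodule A F)).map g :=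
        Submodule.mem_map_of_mem hc
      rw [Submodule.map_smul''] at h1
      exact Submodule.smul_mono le_rfl le_top h1
    · intro k y hy
      have : y ∈ (I ^ (n + k + 1) • (⊤ : Submodule A F)).map g ⊔ N (n + k + 1) := by
        refine (show N (n + k) ≤ _ from (h.le_step (n + k)).trans (sup_le ?_ le_sup_right)) hy
        rw [← hg, Submodule.smul_sup, Submodule.map_smul'', Submodule.map_top]
        exact sup_le le_sup_left (le_sup_of_le_right (h.pow_smul_zero_le (n + k)))
      obtain ⟨_, ⟨c, hc, rfl⟩, z, hz, rfl⟩ := Submodule.mem_sup.1 this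
      exact ⟨c, hc, by simpa [← Nat.add_assoc] using hz⟩
  refine ⟨fun x => ?_, fun n => le_antisymm (fun x hx => ?_) (h.pow_le n)⟩
  · have hx : x ∈ LinearMap.range g ⊔ N 0 := hg ▸ Submodule.mem_top
    obtain ⟨_, ⟨a, rfl⟩, z, hz, rfl⟩ := Submodule.mem_sup.1 hx
    obtain ⟨c, -, rfl⟩ := key 0 z hz
    exact ⟨a + c, map_add g a c⟩
  · obtain ⟨c, hc, rfl⟩ := key n x hx
    have h1 : g c ∈ (I ^ (n + 1) • (⊤ : Submodule A F)).map g := Submodule.mem_map_of_mem hc
    rw [Submodule.map_smul''] at h1
    exact Submodule.smul_mono le_rfl le_top h1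

/-- When `I` is finitely generated, the filtration is the `I`-adic one. -/
theorem eq_of_fg (h : IsLimFilt I N) (hI : I.FG) (n : ℕ) :
    N n = I ^ (n + 1) • (⊤ : Submodule A L) := by
  refine le_antisymm (fun x hx => ?_) (h.pow_le n)
  obtain ⟨s, a, ha⟩ := Submodule.fg_iff_exists_fin_generating_family.1 (Ideal.FG.pow (n := n + 1) hI)
  let g : (Fin s → L) →ₗ[A] L := ∑ i, a i • LinearMap.proj i
  have hrange : ∀ p : Submodule A L, ∀ y ∈ I ^ (n + 1) • p,
      ∃ c : Fin s → L, (∀ i, c i ∈ p) ∧ g c = y := by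
    intro p y hy
    rw [← ha] at hy
    refine Submodule.smul_induction_on hy (fun r hr m hm => ?_) ?_
    · obtain ⟨c, rfl⟩ := (Submodule.mem_span_range_iff_exists_fun A).1 hr
      refine ⟨fun i => c i • m, fun i => p.smul_mem _ hm, ?_⟩
      simp [g, Finset.sum_smul, smul_smul, mul_comm]
    · rintro _ _ ⟨c, hc, rfl⟩ ⟨d, hd, rfl⟩
      exact ⟨c + d, fun i => p.add_mem (hc i) (hd i), map_add g c d⟩
  have haI : ∀ i, a i ∈ I ^ (n + 1) := fun i => ha ▸ Submodule.subset_span ⟨i, rfl⟩
  let N' : ℕ → Submodule A L := fun k => if k = 0 then ⊤ else N (k - 1)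
  refine (exists_eq_map
    (fun k => (Submodule.pi Set.univ fun _ : Fin s => N' k).toAddSubgroup)
    (fun k => (N (n + k)).toAddSubgroup) g.toAddMonoidHom ?_ ?_ ?_ ?_ ?_ (x := x) hx).elim
      fun c hc => ?_
  · intro k y hy i hi
    have := hy i hi
    rcases k with _ | k
    · trivial
    · exact h.mono k this
  · intro t ht
    have : ∀ i, ∃ S, ∀ k, S - t (k + 1) i ∈ N k := fun i =>
      h.compl (fun k => t (k + 1) i) fun k => ht (k + 1) i trivial
    choose S hS using this
    refine ⟨S, fun k i _ => ?_⟩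
    rcases k with _ | k
    · trivial
    · exact hS i k
  · intro y hy
    refine h.sep y fun m => ?_
    exact antitone_nat_of_succ_le h.mono (Nat.le_add_left m n) (hy m)
  · intro k c hc
    simp only [g, LinearMap.toAddMonoidHom_coe, LinearMap.coe_sum, Finset.sum_apply,
      LinearMap.smul_apply, LinearMap.proj_apply]
    refine Submodule.sum_mem _ fun i _ => ?_
    rcases k with _ | k
    · exact h.pow_le n (Submodule.smul_mem_smul (haI i) trivial)
    · have hck : c i ∈ I ^ (k + 1) • (⊤ : Submodule A L) ⊔ N (k + (n + 1)) :=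
        h.le_pow_smul_sup k (n + 1) (hc i trivial)
      obtain ⟨p, hp, q, hq, hpq⟩ := Submodule.mem_sup.1 hck
      rw [← hpq, smul_add]
      refine add_mem (h.pow_le _ ?_) (Submodule.smul_mem _ _ ?_)
      · rw [show n + (k + 1) + 1 = (n + 1) + (k + 1) by omega, pow_add, Submodule.mul_smul]
        exact Submodule.smul_mem_smul (haI i) hp
      · rwa [show n + (k + 1) = k + (n + 1) by omega]
  · intro k y hy
    have hle : N (n + k) ≤ I ^ (n + 1) • N' k ⊔ N (n + k + 1) := by
      refine (h.le_step (n + k)).trans (sup_le ?_ le_sup_right)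
      refine le_sup_of_le_left ?_
      rw [show n + k + 1 = (n + 1) + k by omega, pow_add, Submodule.mul_smul]
      refine smul_mono_right _ ?_
      rcases k with _ | k
      · exact le_top
      · exact h.pow_le k
    obtain ⟨p, hp, z, hz, rfl⟩ := Submodule.mem_sup.1 (hle hy)
    obtain ⟨c, hc, rfl⟩ := hrange _ p hp
    exact ⟨c, fun i _ => hc i, by simpa [← Nat.add_assoc] using hz⟩
  · rw [← hc.2]
    simp only [g, LinearMap.toAddMonoidHom_coe, LinearMap.coe_sum, Finset.sum_apply,
      LinearMap.smul_apply, LinearMap.proj_apply]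
    exact Submodule.sum_mem _ fun i _ => Submodule.smul_mem_smul (haI i) trivial

theorem isAdicComplete (h : IsLimFilt I N)
    (hN : ∀ n, N n = I ^ (n + 1) • (⊤ : Submodule A L)) : IsAdicComplete I L := by
  refine { haus' := fun x hx => h.sep x fun n => ?_, prec' := fun f hf => ?_ }
  · rw [hN n]; exact SModEq.zero.1 (hx (n + 1))
  · obtain ⟨S, hS⟩ := h.compl (fun n => f (n + 1)) fun n => by
      rw [hN n, ← neg_sub]
      exact neg_mem (SModEq.sub_mem.1 (hf (Nat.le_succ (n + 1))))
    refine ⟨S, fun n => ?_⟩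
    rcases n with _ | n
    · simp [SModEq.sub_mem]
    · have := hS n
      rw [hN n] at this
      rw [SModEq.sub_mem, ← neg_sub]
      exact neg_mem this

end IsLimFilt

section System

/-- Compatible families through a prescribed element of a surjective system. -/
theorem exists_compatible (n : ℕ) :
    ∀ (X : ℕ → Type w) (f : ∀ m, X (m + 1) → X m) (_ : ∀ m, Function.Surjective (f m)) (x : X n),
      ∃ y : ∀ m, X m, (∀ m, f m (y (m + 1)) = y m) ∧ y n = x := by
  induction n with
  | zero =>
    intro X f hf x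
    let y : ∀ m, X m := fun m => Nat.rec x (fun m z => (hf m z).choose) m
    exact ⟨y, fun m => (hf m (y m)).choose_spec, rfl⟩
  | succ n ih =>
    intro X f hf x
    obtain ⟨y, hy, hx⟩ := ih (fun m => X (m + 1)) (fun m => f (m + 1)) (fun m => hf (m + 1)) x
    refine ⟨fun m => match m with
      | 0 => f 0 (y 0)
      | m + 1 => y m, fun m => ?_, hx⟩
    rcases m with _ | m
    · rfl
    · exact hy m

variable {M : ℕ → Type w} [∀ n, AddCommGroup (M n)] [∀ n, Module A (M n)]

/-- An inverse limit of a system with `ker (f n) = I^(n+1) M (n+1)` gives an `IsLimFilt`. -/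
theorem isLimFilt_of_system (f : ∀ n, M (n + 1) →ₗ[A] M n) (hf : ∀ n, Function.Surjective (f n))
    (hker : ∀ n, LinearMap.ker (f n) = I ^ (n + 1) • (⊤ : Submodule A (M (n + 1))))
    (π : ∀ n, L →ₗ[A] M n) (hπ : ∀ n, f n ∘ₗ π (n + 1) = π n)
    (hinj : ∀ x : L, (∀ n, π n x = 0) → x = 0)
    (hlift : ∀ y : (∀ n, M n), (∀ n, f n (y (n + 1)) = y n) → ∃ x : L, ∀ n, π n x = y n) :
    (∀ n, Function.Surjective (π n)) ∧ IsLimFilt I fun n => LinearMap.ker (π n) := by
  have hk : ∀ n, I ^ (n + 1) • (⊤ : Submodule A (M n)) = ⊥ := by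
    intro n
    rw [← LinearMap.range_eq_top.2 (hf n), ← Submodule.map_top, ← Submodule.map_smul'', ← hker n,
      eq_bot_iff, Submodule.map_le_iff_le_comap]
    exact le_rfl
  have hπ' : ∀ n x, f n (π (n + 1) x) = π n x := fun n x => LinearMap.congr_fun (hπ n) x
  have hsurj : ∀ n, Function.Surjective (π n) := by
    intro n x
    obtain ⟨y, hy, rfl⟩ := exists_compatible n M (fun m => f m) hf x
    obtain ⟨l, hl⟩ := hlift y hy
    exact ⟨l, hl n⟩
  refine ⟨hsurj, ⟨fun x hx => hinj x fun n => hx n, ?_, ?_, ?_, ?_⟩⟩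
  · intro s hs
    obtain ⟨S, hS⟩ := hlift (fun n => π n (s n)) fun n => by
      rw [hπ', ← sub_eq_zero, ← map_sub]
      exact hs n
    exact ⟨S, fun n => by simp [LinearMap.mem_ker, hS n]⟩
  · intro n
    rw [← Submodule.comap_bot, ← Submodule.map_le_iff_le_comap, Submodule.map_smul'', ← hk n]
    exact smul_mono_right _ le_top
  · intro n x hx
    have h1 : π (n + 1) x ∈ LinearMap.ker (f n) := by
      rw [LinearMap.mem_ker, hπ']
      exact hx
    rw [hker n, ← LinearMap.range_eq_top.2 (hsurj (n + 1)), ← Submodule.map_top,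
      ← Submodule.map_smul''] at h1
    obtain ⟨y, hy, hxy⟩ := h1
    exact Submodule.mem_sup.2 ⟨y, hy, x - y, by simp [LinearMap.mem_ker, hxy], add_sub_cancel y x⟩
  · intro n x hx
    simp only [LinearMap.mem_ker] at hx ⊢
    rw [← hπ', hx, map_zero]

/-- Lifts of generators of the image of `π`. -/
theorem exists_range_sup_ker {L₀ : Type*} [AddCommGroup L₀] [Module A L₀]
    (h : Module.Finite A L₀) (π : L →ₗ[A] L₀) (hπ : Function.Surjective π) :
    ∃ (s : ℕ) (g : (Fin s → A) →ₗ[A] L), LinearMap.range g ⊔ LinearMap.ker π = ⊤ := by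
  obtain ⟨s, g₀, hg₀⟩ := Module.Finite.exists_fin' A L₀
  obtain ⟨g, rfl⟩ := Module.projective_lifting_property π g₀ hπ
  refine ⟨s, g, eq_top_iff.2 fun x _ => ?_⟩
  obtain ⟨c, hc⟩ := hg₀ (π x)
  exact Submodule.mem_sup.2 ⟨g c, ⟨c, rfl⟩, x - g c, by
    simpa [LinearMap.mem_ker, sub_eq_zero] using hc.symm, add_sub_cancel (g c) x⟩

end System

end Groth.Agent.AdicLim
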