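import Mathlib.RingTheory.MvPolynomial.Homogeneous
import Mathlib.RingTheory.Polynomial.Basic
import Mathlib.RingTheory.AdicCompletion.Noetherian
import Groth.Agent.AdicLim.Filt

/-!
# A complete ring is Noetherian if `I` is finitely generated and `A / I` is Noetherian
-/

namespace Groth.Agent.AdicLim

universe u v

open MvPolynomial

variable {A : Type u} [CommRing A] {I : Ideal A}

theorem eval_mem_mul_pow {σ : Type*} (a : σ → A) (ha : ∀ i, a i ∈ I) (J : Ideal A)
    {P : MvPolynomial σ A} {d : ℕ} (hP : P.IsHomogeneous d) (hJ : ∀ m, P.coeff m ∈ J) :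
    eval a P ∈ J * I ^ d := by
  rw [eval_eq]
  refine Ideal.sum_mem _ fun m hm => Ideal.mul_mem_mul (hJ m) ?_
  have hd : m.degree = d := by
    rw [← hP (mem_support_iff.1 hm), Finsupp.degree_eq_weight_one]
    rfl
  rw [← hd, Finsupp.degree_apply, ← Finset.prod_pow_eq_pow_sum]
  exact Ideal.prod_mem_prod fun i _ => Ideal.pow_mem_pow (ha i) _

theorem exists_isHomogeneous_eval {σ : Type*} (a : σ → A) (hI : Ideal.span (Set.range a) = I)
    {d : ℕ} {x : A} (hx : x ∈ I ^ d) :
    ∃ P : MvPolynomial σ A, P.IsHomogeneous d ∧ eval a P = x := by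
  induction d generalizing x with
  | zero => exact ⟨C x, isHomogeneous_C _ _, eval_C x⟩
  | succ d ih =>
    rw [pow_succ] at hx
    refine Submodule.mul_induction_on hx (fun y hy z hz => ?_) ?_
    · obtain ⟨P, hP, rfl⟩ := ih hy
      rw [← hI, Ideal.span, Finsupp.mem_span_range_iff_exists_finsupp] at hz
      obtain ⟨c, rfl⟩ := hz
      refine ⟨P * ∑ i ∈ c.support, C (c i) * X i, hP.mul ?_, ?_⟩
      · exact IsHomogeneous.sum _ _ _ fun i _ => isHomogeneous_C_mul_X _ _
      · simp [Finsupp.sum]
    · rintro _ _ ⟨P, hP, rfl⟩ ⟨Q, hQ, rfl⟩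
      exact ⟨P + Q, hP.add hQ, map_add _ P Q⟩

theorem homogeneousComponent_mul_of_isHomogeneous {σ : Type*} (Q : MvPolynomial σ A)
    {P : MvPolynomial σ A} {e : ℕ} (hP : P.IsHomogeneous e) (d : ℕ) :
    homogeneousComponent d (Q * P) =
      if e ≤ d then homogeneousComponent (d - e) Q * P else 0 := by
  have h1 : ∀ k, homogeneousComponent d (homogeneousComponent k Q * P) =
      if k + e = d then homogeneousComponent k Q * P else 0 := by
    intro k
    have h : (homogeneousComponent k Q * P).IsHomogeneous (k + e) :=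
      (homogeneousComponent_isHomogeneous k Q).mul hP
    rw [homogeneousComponent_of_mem h]
    simp [eq_comm]
  conv_lhs => rw [← sum_homogeneousComponent Q, Finset.sum_mul, map_sum]
  simp only [h1]
  split_ifs with hed
  · rw [Finset.sum_eq_single (d - e) (fun k _ hk => if_neg (by omega)) (fun hk => ?_),
      if_pos (by omega)]
    rw [Finset.mem_range, not_lt] at hk
    rw [if_pos (by omega), homogeneousComponent_eq_zero _ _ (by omega), zero_mul]
  · exact Finset.sum_eq_zero fun k _ => if_neg (by omega)

/-- A complete ring with finitely generated ideal of definition and Noetherian reduction is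
Noetherian. -/
theorem isNoetherianRing_of_isAdicComplete (hI : I.FG) [IsAdicComplete I A]
    [IsNoetherianRing (A ⧸ I)] : IsNoetherianRing A := by
  classical
  obtain ⟨s, a, ha⟩ := Submodule.fg_iff_exists_fin_generating_family.1 hI
  have haI : ∀ i, a i ∈ I := fun i => ha ▸ Submodule.subset_span ⟨i, rfl⟩
  constructor
  intro J
  -- initial forms of the elements of `J`
  let S : Set (MvPolynomial (Fin s) (A ⧸ I)) :=
    {q | ∃ d P j, P.IsHomogeneous d ∧ j ∈ J ∧ eval a P - j ∈ I ^ (d + 1) ∧
      MvPolynomial.map (Ideal.Quotient.mk I) P = q}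
  obtain ⟨T, hTS, hT⟩ :=
    (Submodule.fg_span_iff_fg_span_finset_subset (R := MvPolynomial (Fin s) (A ⧸ I)) S).1
      (IsNoetherian.noetherian _)
  have hq : ∀ q : T, ∃ d P j, P.IsHomogeneous d ∧ j ∈ J ∧ eval a P - j ∈ I ^ (d + 1) ∧
      MvPolynomial.map (Ideal.Quotient.mk I) P = q.1 := fun q => hTS q.2
  choose e P j hP hj hPj hmap using hq
  have hje : ∀ q, j q ∈ I ^ e q := by
    intro q
    have h1 : eval a (P q) ∈ I ^ e q := by
      simpa using eval_mem_mul_pow a haI ⊤ (hP q) (fun m => trivial)
    simpa using sub_mem h1 (Ideal.pow_le_pow_right (Nat.le_succ _) (hPj q))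
  let g : (T → A) →+ A :=
    { toFun := fun c => ∑ q, c q * j q
      map_zero' := by simp
      map_add' := fun c d => by simp [add_mul, Finset.sum_add_distrib] }
  suffices J = Ideal.span (Set.range j) by
    rw [this]; exact Submodule.fg_span (Set.finite_range j)
  refine le_antisymm (fun x hx => ?_) (Ideal.span_le.2 (Set.range_subset_iff.2 hj))
  obtain ⟨c, -, rfl⟩ := exists_eq_map
    (fun k => (Submodule.pi Set.univ fun q : T => I ^ (k - e q)).toAddSubgroup)
    (fun k => (J ⊓ I ^ k).toAddSubgroup) g
    (fun k c hc q hq => Ideal.pow_le_pow_right (by omega) (hc q hq))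
    (fun t ht => by
      have : ∀ q, ∃ L : A, ∀ k, L - t k q ∈ I ^ (k - e q) := fun q => by
        obtain ⟨L, hL⟩ := exists_limit_shift (I := I) A (e q) (fun k => t k q) fun k => by
          simpa using ht k q trivial
        exact ⟨L, fun k => by simpa using hL k⟩
      choose L hL using this
      exact ⟨L, fun k q _ => hL q k⟩)
    (fun y hy => IsHausdorff.haus (I := I) inferInstance y fun k =>
      SModEq.zero.2 (by simpa using (hy k).2))
    (fun k c hc => by
      refine ⟨Ideal.sum_mem _ fun q _ => Ideal.mul_mem_left J _ (hj q),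
        Ideal.sum_mem _ fun q _ => ?_⟩
      refine Ideal.pow_le_pow_right (show k ≤ (k - e q) + e q by omega) ?_
      rw [pow_add]
      exact Ideal.mul_mem_mul (hc q trivial) (hje q))
    (fun k y hy => by
      obtain ⟨R, hR, hRy⟩ := exists_isHomogeneous_eval a ha hy.2
      have hmem : MvPolynomial.map (Ideal.Quotient.mk I) R ∈
          Submodule.span (MvPolynomial (Fin s) (A ⧸ I)) S :=
        Submodule.subset_span ⟨k, R, y, hR, hy.1, by simp [hRy], rfl⟩
      rw [hT, show (T : Set (MvPolynomial (Fin s) (A ⧸ I))) = Set.range fun q : T => q.1 by simp,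
        Submodule.mem_span_range_iff_exists_fun] at hmem
      obtain ⟨Q, hQ⟩ := hmem
      have hlift : ∀ q, ∃ Q', MvPolynomial.map (Ideal.Quotient.mk I) Q' = Q q := fun q =>
        MvPolynomial.map_surjective _ Ideal.Quotient.mk_surjective (Q q)
      choose Q' hQ' using hlift
      let c : T → A := fun q =>
        if e q ≤ k then eval a (homogeneousComponent (k - e q) (Q' q)) else 0
      have hc : ∀ q, c q ∈ I ^ (k - e q) := by
        intro q
        simp only [c]
        split_ifs
        · simpa using eval_mem_mul_pow a haI ⊤ (homogeneousComponent_isHomogeneous _ (Q' q))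
            (fun m => trivial)
        · exact zero_mem _
      refine ⟨c, fun q _ => hc q, Ideal.sub_mem J hy.1 (Ideal.sum_mem _ fun q _ =>
        Ideal.mul_mem_left J _ (hj q)), ?_⟩
      -- the degree `k` part of the lifted relation
      let W := R - ∑ q, Q' q * P q
      have hW : ∀ m, W.coeff m ∈ I := by
        intro m
        rw [← Ideal.Quotient.eq_zero_iff_mem, ← MvPolynomial.coeff_map]
        simp only [W, map_sub, map_sum, map_mul, hQ', hmap]
        simp only [smul_eq_mul] at hQ
        rw [hQ, sub_self, coeff_zero]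
      have h1 : eval a (homogeneousComponent k W) ∈ I ^ (k + 1) := by
        rw [pow_succ']
        refine eval_mem_mul_pow a haI I (homogeneousComponent_isHomogeneous k W) fun m => ?_
        rw [coeff_homogeneousComponent]
        split_ifs
        exacts [hW m, zero_mem _]
      have h2 : eval a (homogeneousComponent k W) = y - ∑ q, c q * eval a (P q) := by
        simp only [W, map_sub, map_sum]
        rw [homogeneousComponent_of_mem (hR : R ∈ homogeneousSubmodule _ _ k), if_pos rfl, hRy]
        congr 1
        refine Finset.sum_congr rfl fun q _ => ?_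
        rw [homogeneousComponent_mul_of_isHomogeneous _ (hP q)]
        simp only [c]
        split_ifs <;> simp
      have h3 : ∀ q, c q * (eval a (P q) - j q) ∈ I ^ (k + 1) := by
        intro q
        refine Ideal.pow_le_pow_right (show k + 1 ≤ (k - e q) + (e q + 1) by omega) ?_
        rw [pow_add]
        exact Ideal.mul_mem_mul (hc q) (hPj q)
      have h4 := Ideal.add_mem _ h1 (Ideal.sum_mem _ fun q (_ : q ∈ Finset.univ) => h3 q)
      rw [h2] at h4
      convert h4 using 1
      simp [g, mul_sub, Finset.sum_sub_distrib])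
    (x := x) ⟨hx, by simp⟩
  exact Ideal.sum_mem _ fun q _ => Ideal.mul_mem_left _ _ (Ideal.subset_span ⟨q, rfl⟩)

/-- `J` is finitely generated if it is so modulo `J ^ 2` in a `J`-complete ring. -/
theorem fg_of_fg_map_quotient_sq (J : Ideal A) [IsAdicComplete J A]
    (h : (J.map (Ideal.Quotient.mk (J ^ 2))).FG) : J.FG := by
  classical
  obtain ⟨J₀, hJ₀, hfg, hle⟩ : ∃ J₀ ≤ J, J₀.FG ∧ J ≤ J₀ ⊔ J ^ 2 := by
    obtain ⟨s, a, ha⟩ := Submodule.fg_iff_exists_fin_generating_family.1 h
    have : ∀ i, ∃ b ∈ J, Ideal.Quotient.mk (J ^ 2) b = a i := fun i =>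
      (Ideal.mem_map_iff_of_surjective _ Ideal.Quotient.mk_surjective).1
        (ha ▸ Submodule.subset_span ⟨i, rfl⟩)
    choose b hb hba using this
    refine ⟨Ideal.span (Set.range b), Ideal.span_le.2 (Set.range_subset_iff.2 hb),
      Submodule.fg_span (Set.finite_range b), fun x hx => ?_⟩
    have : Ideal.Quotient.mk (J ^ 2) x ∈
        (Ideal.span (Set.range b)).map (Ideal.Quotient.mk (J ^ 2)) := by
      rw [Ideal.map_span, ← Set.range_comp, show Ideal.Quotient.mk (J ^ 2) ∘ b = a from funext hba]
      rw [Ideal.span, ha]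
      exact Ideal.mem_map_of_mem _ hx
    rw [← Ideal.mem_comap, Ideal.comap_map_of_surjective _ Ideal.Quotient.mk_surjective,
      ← RingHom.ker_eq_comap_bot, Ideal.mk_ker] at this
    exact this
  obtain ⟨s, a, ha⟩ := Submodule.fg_iff_exists_fin_generating_family.1 hfg
  have haJ : ∀ i, a i ∈ J := fun i => hJ₀ (ha ▸ Submodule.subset_span ⟨i, rfl⟩)
  suffices J = J₀ from this ▸ hfg
  refine le_antisymm (fun x hx => ?_) hJ₀
  let g : (Fin s → A) →+ A :=
    { toFun := fun c => ∑ i, c i * a i
      map_zero' := by simp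
      map_add' := fun c d => by simp [add_mul, Finset.sum_add_distrib] }
  obtain ⟨c, -, rfl⟩ := exists_eq_map
    (fun k => (Submodule.pi Set.univ fun _ : Fin s => J ^ k).toAddSubgroup)
    (fun k => (J ^ (k + 1)).toAddSubgroup) g
    (fun k c hc i hi => Ideal.pow_le_pow_right (Nat.le_succ k) (hc i hi))
    (fun t ht => by
      have : ∀ i, ∃ L : A, ∀ k, L - t k i ∈ J ^ k := fun i => by
        obtain ⟨L, hL⟩ := exists_limit (I := J) A (fun k => t k i) fun k => by
          simpa using ht k i trivial
        exact ⟨L, fun k => by simpa using hL k⟩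
      choose L hL using this
      exact ⟨L, fun k i _ => hL i k⟩)
    (fun y hy => IsHausdorff.haus (I := J) inferInstance y fun k => by
      rw [SModEq.zero, smul_eq_mul, Ideal.mul_top]
      exact Ideal.pow_le_pow_right (Nat.le_succ k) (hy k))
    (fun k c hc => show ∑ i, c i * a i ∈ J ^ (k + 1) from Ideal.sum_mem _ fun i _ => by
      rw [pow_succ]
      exact Ideal.mul_mem_mul (hc i trivial) (haJ i))
    (fun k y hy => by
      have h1 : y ∈ J ^ k * J₀ ⊔ J ^ (k + 1 + 1) := by
        have : J ^ (k + 1) ≤ J ^ k * (J₀ ⊔ J ^ 2) := by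
          rw [pow_succ]; exact Ideal.mul_mono le_rfl hle
        have h2 := this hy
        rwa [Ideal.mul_sup, ← pow_add] at h2
      obtain ⟨p, hp, z, hz, rfl⟩ := Submodule.mem_sup.1 h1
      have : ∃ c : Fin s → A, (∀ i, c i ∈ J ^ k) ∧ g c = p := by
        refine Submodule.mul_induction_on hp (fun r hr m hm => ?_) ?_
        · rw [← ha] at hm
          obtain ⟨c, rfl⟩ := (Submodule.mem_span_range_iff_exists_fun A).1 hm
          exact ⟨fun i => r * c i, fun i => Ideal.mul_mem_right _ _ hr, by
            simp [g, Finset.mul_sum, mul_assoc]⟩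
        · rintro _ _ ⟨c, hc, rfl⟩ ⟨d, hd, rfl⟩
          exact ⟨c + d, fun i => Ideal.add_mem _ (hc i) (hd i), map_add g c d⟩
      obtain ⟨c, hc, rfl⟩ := this
      exact ⟨c, fun i _ => hc i, by simpa using hz⟩)
    (x := x) (by simpa using hx)
  rw [← ha]
  show ∑ i, c i * a i ∈ Submodule.span A (Set.range a)
  exact Ideal.sum_mem (Submodule.span A (Set.range a)) fun i _ =>
    Ideal.mul_mem_left _ _ (Submodule.subset_span (Set.mem_range_self i))

/-- Finite modules over a Noetherian complete ring are complete. -/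
theorem isAdicComplete_of_finite [IsNoetherianRing A] [IsAdicComplete I A] (M : Type v)
    [AddCommGroup M] [Module A M] [Module.Finite A M] : IsAdicComplete I M := by
  haveI : IsHausdorff I M := IsHausdorff.of_le_jacobson I M (IsAdicComplete.le_jacobson_bot I)
  obtain ⟨s, g, hg⟩ := Module.Finite.exists_fin' A M
  haveI : IsPrecomplete I (Fin s → A) := isPrecomplete_pi A
  refine { prec' := fun f hf => ?_ }
  have hmap : ∀ n, I ^ n • (⊤ : Submodule A M) = (I ^ n • (⊤ : Submodule A (Fin s → A))).map g := by
    intro n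
    rw [Submodule.map_smul'', Submodule.map_top, LinearMap.range_eq_top.2 hg]
  have hd : ∀ n, ∃ d ∈ I ^ n • (⊤ : Submodule A (Fin s → A)), g d = f (n + 1) - f n := fun n => by
    have := SModEq.sub_mem.1 (hf (Nat.le_succ n))
    rw [hmap n] at this
    obtain ⟨d, hd, e⟩ := this
    exact ⟨-d, neg_mem hd, by rw [map_neg, e, neg_sub]⟩
  choose d hdm hde using hd
  obtain ⟨c0, hc0⟩ := hg (f 0)
  let t : ℕ → (Fin s → A) := fun n => c0 + ∑ i ∈ Finset.range n, d i
  obtain ⟨S, hS⟩ := exists_limit (I := I) (Fin s → A) t fun n => by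
    rw [show t (n + 1) - t n = d n by simp [t, Finset.sum_range_succ]]
    exact hdm n
  have ht : ∀ n, g (t n) = f n := by
    intro n
    simp only [t, map_add, map_sum, hde, hc0, Finset.sum_range_sub f]
    abel
  refine ⟨g S, fun n => ?_⟩
  rw [SModEq.sub_mem, ← ht n, ← map_sub, hmap n, ← neg_sub, map_neg]
  exact neg_mem (Submodule.mem_map_of_mem (hS n))

/-- Quotients of complete Noetherian rings are complete. -/
theorem isAdicComplete_quotient [IsNoetherianRing A] [IsAdicComplete I A] (J : Ideal A) :
    IsAdicComplete (I.map (algebraMap A (A ⧸ J))) (A ⧸ J) :=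
  (IsAdicComplete.map_algebraMap_iff I (A ⧸ J)).2 (isAdicComplete_of_finite (A ⧸ J))

end Groth.Agent.AdicLim
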