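import Mathlib.RingTheory.Ideal.BigOperators
import Groth.Agent.AdicLim.Filt

/-!
# Inverse limits of thickening systems of rings
-/

namespace Groth.Agent.AdicLim

universe u

variable {B : ℕ → Type u} [∀ n, CommRing (B n)] {A : Type u} [CommRing A]

/-- The limit of a thickening system of rings is complete, with the expected kernels. -/
theorem ring_limit (u : ∀ n, B (n + 1) →+* B n) (hu : ∀ n, Function.Surjective (u n))
    (v : ∀ n, B n →+* B 0) (hv0 : v 0 = RingHom.id (B 0)) (hv : ∀ n, (v n).comp (u n) = v (n + 1))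
    (hker : ∀ n, RingHom.ker (u n) = RingHom.ker (v (n + 1)) ^ (n + 1))
    (hfg : (RingHom.ker (v 1)).FG) (p : ∀ n, A →+* B n)
    (hp : ∀ n, (u n).comp (p (n + 1)) = p n)
    (hinj : ∀ x : A, (∀ n, p n x = 0) → x = 0)
    (hlift : ∀ y : (∀ n, B n), (∀ n, u n (y (n + 1)) = y n) → ∃ x : A, ∀ n, p n x = y n) :
    IsAdicComplete (RingHom.ker (p 0)) A ∧
      (∀ n, Function.Surjective (p n) ∧ RingHom.ker (p n) = RingHom.ker (p 0) ^ (n + 1)) ∧
      (RingHom.ker (p 0)).FG := by
  classical
  set I := RingHom.ker (p 0) with hIdef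
  have hp' : ∀ n x, u n (p (n + 1) x) = p n x := fun n x => RingHom.congr_fun (hp n) x
  have hsurj : ∀ n, Function.Surjective (p n) := by
    intro n x
    obtain ⟨y, hy, rfl⟩ := exists_compatible n B (fun m => u m) hu x
    obtain ⟨l, hl⟩ := hlift y hy
    exact ⟨l, hl n⟩
  have hvp : ∀ n, (v n).comp (p n) = p 0 := by
    intro n
    induction n with
    | zero => rw [hv0, RingHom.id_comp]
    | succ n ih => rw [← hv n, RingHom.comp_assoc, hp n, ih]
  have hkv : ∀ n, RingHom.ker (v n) = I.map (p n) := by
    intro n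
    refine le_antisymm (fun x hx => ?_) (Ideal.map_le_iff_le_comap.2 fun a ha => ?_)
    · obtain ⟨a, rfl⟩ := hsurj n x
      refine Ideal.mem_map_of_mem _ ?_
      rw [hIdef, RingHom.mem_ker, ← hvp n]
      exact RingHom.mem_ker.1 hx
    · rw [Ideal.mem_comap, RingHom.mem_ker, ← RingHom.comp_apply, hvp n]
      exact ha
  -- the kernels of the projections
  let q : ℕ → Ideal A := fun n => RingHom.ker (p n)
  have hq : ∀ n, q n = I ^ (n + 1) ⊔ q (n + 1) := by
    intro n
    show RingHom.ker (p n) = I ^ (n + 1) ⊔ RingHom.ker (p (n + 1))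
    rw [← hp n, ← RingHom.comap_ker, hker n, hkv (n + 1), ← Ideal.map_pow,
      Ideal.comap_map_of_surjective _ (hsurj (n + 1)), RingHom.ker_eq_comap_bot (p (n + 1))]
  have hpow : ∀ n, I ^ (n + 1) ≤ q n := fun n => (hq n).symm ▸ le_sup_left
  have hmono : ∀ n, q (n + 1) ≤ q n := fun n => (hq n).symm ▸ le_sup_right
  have hfilt : IsLimFilt I q := by
    refine ⟨fun x hx => hinj x hx, fun s hs => ?_, fun n => ?_, fun n => ?_, hmono⟩
    · obtain ⟨S, hS⟩ := hlift (fun n => p n (s n)) fun n => by
        rw [hp', ← sub_eq_zero, ← map_sub]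
        exact hs n
      exact ⟨S, fun n => by simp [q, RingHom.mem_ker, hS n]⟩
    · rw [smul_eq_mul, Ideal.mul_top]; exact hpow n
    · rw [smul_eq_mul, Ideal.mul_top]; exact (hq n).le
  -- finite generation
  obtain ⟨s, b, hb⟩ := Submodule.fg_iff_exists_fin_generating_family.1 hfg
  have hlb : ∀ i, ∃ a ∈ I, p 1 a = b i := fun i =>
    (Ideal.mem_map_iff_of_surjective _ (hsurj 1)).1
      (hkv 1 ▸ hb ▸ Submodule.subset_span ⟨i, rfl⟩)
  choose a haI hab using hlb
  set J := Ideal.span (Set.range a) with hJdef
  have hJI : J ≤ I := Ideal.span_le.2 (Set.range_subset_iff.2 haI)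
  have hIJ : ∀ m, I ≤ J ⊔ q m := by
    intro m
    induction m with
    | zero => exact le_sup_right
    | succ m ih =>
      rcases m with _ | m
      · intro x hx
        have h1 : p 1 x ∈ J.map (p 1) := by
          rw [hJdef, Ideal.map_span, ← Set.range_comp,
            show p 1 ∘ a = b from funext hab, Ideal.span, hb, hkv 1]
          exact Ideal.mem_map_of_mem _ hx
        rw [← Ideal.mem_comap, Ideal.comap_map_of_surjective _ (hsurj 1),
          ← RingHom.ker_eq_comap_bot] at h1
        exact h1
      · have h2 : I ^ (m + 1 + 1) ≤ J ⊔ q (m + 1 + 1) := by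
          rw [pow_succ (n := m + 1)]
          refine (Ideal.mul_mono le_rfl ih).trans ?_
          rw [Ideal.mul_sup]
          refine sup_le (le_sup_of_le_left Ideal.mul_le_right) (le_sup_of_le_right ?_)
          rw [hq (m + 1), Ideal.mul_sup, ← pow_add]
          exact sup_le ((Ideal.pow_le_pow_right (by omega)).trans (hpow (m + 1 + 1)))
            Ideal.mul_le_right
        refine ih.trans (sup_le le_sup_left ?_)
        rw [hq (m + 1)]
        exact sup_le h2 le_sup_right
  have hI : I = J := by
    refine le_antisymm (fun x hx => ?_) hJI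
    let q' : ℕ → Ideal A := fun k => if k = 0 then ⊤ else q (k - 1)
    let g : (Fin s → A) →+ A :=
      { toFun := fun c => ∑ i, c i * a i
        map_zero' := by simp
        map_add' := fun c d => by simp [add_mul, Finset.sum_add_distrib] }
    obtain ⟨c, -, rfl⟩ := exists_eq_map
      (fun k => (Submodule.pi Set.univ fun _ : Fin s => q' k).toAddSubgroup)
      (fun k => (q k).toAddSubgroup) g
      (fun k c hc i hi => by
        rcases k with _ | k
        · trivial
        · exact hmono k (hc i hi))
      (fun t ht => by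
        have : ∀ i, ∃ S, ∀ k, S - t (k + 1) i ∈ q k := fun i =>
          hfilt.compl (fun k => t (k + 1) i) fun k => ht (k + 1) i trivial
        choose S hS using this
        refine ⟨S, fun k i _ => ?_⟩
        rcases k with _ | k
        · trivial
        · exact hS i k)
      (fun y hy => hinj y hy)
      (fun k c hc => show ∑ i, c i * a i ∈ q k from Ideal.sum_mem _ fun i _ => by
        rcases k with _ | k
        · exact Ideal.mul_mem_left _ _ (haI i)
        · have h1 : c i * a i ∈ q k * I := Ideal.mul_mem_mul (hc i trivial) (haI i)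
          have h2 : q k * I ≤ q (k + 1) := by
            rw [hq k, Ideal.sup_mul, ← pow_succ]
            exact sup_le (hpow (k + 1)) Ideal.mul_le_left
          exact h2 h1)
      (fun k y hy => by
        have h1 : q k ≤ I ^ k * J ⊔ q (k + 1) := by
          rw [hq k]
          refine sup_le ?_ le_sup_right
          rw [pow_succ]
          refine (Ideal.mul_mono le_rfl (hIJ (k + 1))).trans ?_
          rw [Ideal.mul_sup]
          exact sup_le le_sup_left (le_sup_of_le_right Ideal.mul_le_right)
        have hk : I ^ k ≤ q' k := by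
          rcases k with _ | k
          · exact le_top
          · exact hpow k
        obtain ⟨w, hw, z, hz, rfl⟩ := Submodule.mem_sup.1 (h1 hy)
        have : ∃ c : Fin s → A, (∀ i, c i ∈ I ^ k) ∧ g c = w := by
          refine Submodule.mul_induction_on hw (fun r hr m hm => ?_) ?_
          · obtain ⟨c, rfl⟩ := (Submodule.mem_span_range_iff_exists_fun A).1 hm
            exact ⟨fun i => r * c i, fun i => Ideal.mul_mem_right _ _ hr, by
              simp [g, Finset.mul_sum, mul_assoc]⟩
          · rintro _ _ ⟨c, hc, rfl⟩ ⟨d, hd, rfl⟩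
            exact ⟨c + d, fun i => Ideal.add_mem _ (hc i) (hd i), map_add g c d⟩
        obtain ⟨c, hc, rfl⟩ := this
        exact ⟨c, fun i _ => hk (hc i), by simpa using hz⟩)
      (x := x) hx
    show ∑ i, c i * a i ∈ J
    exact Ideal.sum_mem J fun i _ => J.mul_mem_left _ (Ideal.subset_span (Set.mem_range_self i))
  have hIfg : I.FG := hI ▸ Submodule.fg_span (Set.finite_range a)
  have hN := hfilt.eq_of_fg hIfg
  refine ⟨hfilt.isAdicComplete hN, fun n => ⟨hsurj n, ?_⟩, hIfg⟩
  simpa using hN n

end Groth.Agent.AdicLim
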